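import Cfsg.Agent.H58.SUSmall.Orth

/-!
Orthogonal subfield groups are maximal in `SU` from dimension eight.
-/

set_option autoImplicit false

namespace Cfsg.Agent.H12.UnitarySmall.UnitaryOrthEight

open scoped MatrixGroups Matrix
open Matrix QuadraticMap Module Cfsg.Agent.H95 Cfsg.Agent.Symplectic Cfsg.Agent.Orthogonal
open Cfsg.Agent.H98.UnitaryOrth
open Cfsg.Agent.H98.UnitaryOrth.ORat
open Cfsg.Agent.H98.SubfieldOrth (exists_hyp exists_hyp_at le_of_singular ratPts mem_subfieldSubgroup_iff)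

variable {ι : Type} [Fintype ι] [DecidableEq ι] {F : Type*} [Field F] [Finite F]
  {σ : F ≃+* F} {f : (ι → F) → (ι → F) → F} {F₀ : Subfield F}
  {R : ORat σ f F₀} {M : Subgroup (GL ι F)}

/-- The commutator step at an isotropic rational point orthogonal to an irrational one. -/
theorem exists_ue_imag (hM : R.Over M) {θ : F} (hθ : σ θ = -θ) (hθ0 : θ ≠ 0) {g : GL ι F} (hg : g ∈ M)
    {u : R.V₀} (hu : R.Q₀ u = 0) (hu0 : u ≠ 0)
    (hout : ∀ c : F, c ≠ 0 → c • ((g : Matrix ι ι F) *ᵥ (u : ι → F)) ∉ R.V₀)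
    {a b : R.V₀} (hab : (g : Matrix ι ι F) *ᵥ (u : ι → F) = (a : ι → F) + θ • (b : ι → F))
    {x x' z' : R.V₀} (hqx : R.Q₀ x = 0) (hx0 : x ≠ 0) (hqx' : R.Q₀ x' = 0) (hqz' : R.Q₀ z' = 0)
    (hx'z' : polar R.Q₀ x' z' = 1) (hxx' : polar R.Q₀ x x' = 0) (hxz' : polar R.Q₀ x z' = 0)
    (hax : polar R.Q₀ a x = 0) (hbx : polar R.Q₀ b x = 0) (hax' : polar R.Q₀ a x' = 0)
    (hbx' : polar R.Q₀ b x' = 0) (haz' : polar R.Q₀ a z' = 0) (hbz' : polar R.Q₀ b z' = 0) :
    ∃ b' ∈ Submodule.span F₀ ({a, b} : Set R.V₀), b' ≠ 0 ∧ ∃ a' ∈ Submodule.span F₀ ({a, b} : Set R.V₀),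
      UE R.herm M (x : ι → F) (θ • (b' : ι → F))
        (0 + σ (-f (a' : ι → F) (a' : ι → F) / 2) - f (-(a' : ι → F)) ((a' : ι → F) + θ • (b' : ι → F))) := by
  have hf := R.herm
  have hgi := hM.le hg
  set p := (g : Matrix ι ι F) *ᵥ (u : ι → F) with hp
  have hperp : ∀ c : R.V₀, polar R.Q₀ a c = 0 → polar R.Q₀ b c = 0 → f p (c : ι → F) = 0 := fun c h1 h2 => by
    rw [hab, u_add_left hf, u_smul_left hf, R.zero_of h1, R.zero_of h2, mul_zero, add_zero]
  have hpx := hperp x hax hbx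
  have hpx' := hperp x' hax' hbx'
  have hpz' := hperp z' haz' hbz'
  -- an Eichler element centred at p, not orthogonal to x
  obtain ⟨d, hud, hβ⟩ : ∃ d : R.V₀, polar R.Q₀ u d = 0 ∧
      f ((g : Matrix ι ι F) *ᵥ (d : ι → F)) (x : ι → F) ≠ 0 := by
    by_contra hc
    push Not at hc
    obtain ⟨v₁, hv₁, huv₁⟩ := R.nondeg.exists_partner hu0 hu
    set r := ((g⁻¹ : GL ι F) : Matrix ι ι F) *ᵥ (x : ι → F) with hr
    have hgr : (g : Matrix ι ι F) *ᵥ r = (x : ι → F) := by rw [hr, mulVec_inv_mulVec]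
    have hrd : ∀ d : R.V₀, polar R.Q₀ u d = 0 → f r (d : ι → F) = 0 := fun d hd => by
      rw [← mem_isoGrp.1 hgi, hgr, u_symm_zero hf (hc d hd)]
    set k := f r (v₁ : ι → F) with hk
    have h0 : r - k • (u : ι → F) = 0 := R.eq_zero_of_orth fun v => by
      have hd : polar R.Q₀ u (v - polar R.Q₀ u v • v₁) = 0 := by
        rw [polar_sub_right, polar_smul_right', huv₁, mul_one, sub_self]
      have h1 := hrd _ hd
      rw [Submodule.coe_sub, R.coe_smul, R.coe, u_sub_right hf, u_smul_right hf, R.sigma_f, ← hk] at h1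
      rw [u_sub_left hf, u_smul_left hf]
      linear_combination h1
    have hxp : (x : ι → F) = k • p := by
      rw [← hgr, sub_eq_zero.1 h0, mulVec_smul, hp]
    rcases eq_or_ne k 0 with hk0 | hk0
    · exact hx0 (Subtype.ext (by rw [hxp, hk0, zero_smul]; rfl))
    · exact hout k hk0 (hxp ▸ x.2)
  set β := f ((g : Matrix ι ι F) *ᵥ (d : ι → F)) (x : ι → F) with hβdef
  have hgd := (hM.rat u d hu hud).conj hg hgi
  have h1 : UE hf M (x : ι → F) (x' : ι → F) 0 := hM.root hqx hqx' hxx'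
  have h2 : UE hf M (z' : ι → F) (x : ι → F) 0 :=
    hM.root hqz' hqx (by rw [polar_comm]; exact hxz')
  have h3 := hgd.step hM.le h1 h2 (R.one_of hx'z') hpx hpx' hpz'
  have h4 := h3.swap (R.iso_of hqx) (u_symm_zero hf hpx)
  set γ := -σ β with hγ
  have hγ0 : γ ≠ 0 := neg_ne_zero.2 fun e => hβ ((map_eq_zero_iff σ σ.injective).1 e)
  obtain ⟨c₁, c₂, hc⟩ := R.exists_parts hθ hθ0 γ
  have hθ2 : θ * θ ∈ F₀ := (R.fixed _).1 (by rw [map_mul, hθ]; ring)
  set a' := c₁ • a + ((⟨θ * θ, hθ2⟩ : F₀) * c₂) • b with ha'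
  set b' := c₁ • b + c₂ • a with hb'
  have hd' : γ • p = (a' : ι → F) + θ • (b' : ι → F) := by
    rw [hab, hc, ha', hb']
    simp only [Submodule.coe_add, R.coe_smul, Subfield.coe_mul]
    module
  have hb0 : b' ≠ 0 := fun e => hout γ hγ0 (by
    rw [hd', e, ZeroMemClass.coe_zero, smul_zero, add_zero]; exact a'.2)
  have ha'x : polar R.Q₀ x a' = 0 := by
    rw [ha', polar_comm, polar_add_left, polar_smul_left', polar_smul_left', hax, hbx]
    ring
  refine ⟨b', ?_, hb0, a', Submodule.add_mem _ (Submodule.smul_mem _ _ (Submodule.subset_span (Or.inl rfl)))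
    (Submodule.smul_mem _ _ (Submodule.subset_span (Or.inr rfl))), ((h4.congr rfl hd' rfl).mul (hM.rat x a' hqx ha'x).inv).congr rfl (by abel) rfl⟩
  exact Submodule.add_mem _ (Submodule.smul_mem _ _ (Submodule.subset_span (Or.inr rfl)))
    (Submodule.smul_mem _ _ (Submodule.subset_span (Or.inl rfl)))

/-- An element moving a rational isotropic point to an irrational one produces a rational transvection. -/
theorem exists_ut_of_move_eight (hM : R.Over M) (hn : 8 ≤ Fintype.card ι) {θ : F} (hθ : σ θ = -θ) (hθ0 : θ ≠ 0)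
    {g : GL ι F} (hg : g ∈ M) {u : R.V₀} (hu : R.Q₀ u = 0) (hu0 : u ≠ 0)
    (hout : ∀ c : F, c ≠ 0 → c • ((g : Matrix ι ι F) *ᵥ (u : ι → F)) ∉ R.V₀) :
    ∃ x₁ : R.V₀, x₁ ≠ 0 ∧ R.Q₀ x₁ = 0 ∧ ∃ l : F, σ l = -l ∧ l ≠ 0 ∧ ut R.herm (x₁ : ι → F) l ∈ M := by
  have := R.finiteDimensional
  have hd0 : finrank F₀ R.V₀ = Fintype.card ι := R.finrank_eq
  have hf := R.herm
  obtain ⟨a, b, hab⟩ := R.exists_decomp hθ hθ0 ((g : Matrix ι ι F) *ᵥ (u : ι → F))
  have hθ2 : θ * θ ∈ F₀ := (R.fixed _).1 (by rw [map_mul, hθ]; ring)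
  set w : F₀ := ⟨θ * θ, hθ2⟩ with hw
  have hiso : R.Q₀ a = w * R.Q₀ b := by
    have h0 : f ((g : Matrix ι ι F) *ᵥ (u : ι → F)) ((g : Matrix ι ι F) *ᵥ (u : ι → F)) = 0 := by
      rw [mem_isoGrp.1 (hM.le hg)]; exact R.iso_of hu
    have e : f (b : ι → F) (a : ι → F) = f (a : ι → F) (b : ι → F) := by rw [← R.sigma_f a b, u_conj hf]
    rw [hab] at h0
    simp only [u_add_left hf, u_add_right hf, u_smul_left hf, u_smul_right hf, hθ, e, ← R.coe, polar_self'] at h0
    apply Subtype.ext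
    simp only [hw, Subfield.coe_mul] at h0 ⊢
    have h2 : ((2 : F₀) : F) = 2 := rfl
    rw [h2] at h0
    have := R.two
    apply mul_left_cancel₀ this
    linear_combination h0
  have hb0 : b ≠ 0 := fun e => hout 1 one_ne_zero (by
    rw [one_smul, hab, e, ZeroMemClass.coe_zero, smul_zero, add_zero]; exact a.2)
  by_cases hts : R.Q₀ b = 0 ∧ polar R.Q₀ a b = 0
  · obtain ⟨hqb, hab0⟩ := hts
    have hqa : R.Q₀ a = 0 := by rw [hiso, hqb, mul_zero]
    have ha0 : a ≠ 0 := fun e => hout θ hθ0 (by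
      rw [hab, e, ZeroMemClass.coe_zero, zero_add, smul_smul]; exact R.V₀.smul_mem w b.2)
    obtain ⟨C₀, hC₀, hdC₀, hC₀p⟩ := R.exists_perp_pair a b
    obtain ⟨x', hx', z', hz', hqx', hqz', hx'z', -⟩ := exists_hyp R.nondeg hC₀ (by omega)
    have haa : polar R.Q₀ a a = 0 := by rw [polar_self', hqa, mul_zero]
    have hba : polar R.Q₀ b a = 0 := by rw [polar_comm]; exact hab0
    obtain ⟨b', hb', hb'0, a', ha', h⟩ := exists_ue_imag hM hθ hθ0 hg hu hu0 hout hab hqa ha0 hqx' hqz' hx'z'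
      (hC₀p x' hx').1 (hC₀p z' hz').1 haa hba (hC₀p x' hx').1 (hC₀p x' hx').2 (hC₀p z' hz').1 (hC₀p z' hz').2
    obtain ⟨r, s, rfl⟩ := Submodule.mem_span_pair.1 hb'
    rcases eq_or_ne s 0 with rfl | hs
    · have hr : r ≠ 0 := fun e => hb'0 (by rw [e, zero_smul, zero_smul, add_zero])
      obtain ⟨r', s', rfl⟩ := Submodule.mem_span_pair.1 ha'
      set c := θ * (r : F) with hc
      have hcs : σ c = -c := by rw [hc, map_mul, hθ, (R.fixed _).2 r.2]; ring
      have ee : f ((r' • a + s' • b : R.V₀) : ι → F) ((r' • a + s' • b : R.V₀) : ι → F) = 0 := by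
        refine R.iso_of ?_
        rw [map_add_polar, qmap_smul, qmap_smul, polar_smul_left', polar_smul_right', hqa, hqb, hab0]; ring
      have ea : f ((r' • a + s' • b : R.V₀) : ι → F) (a : ι → F) = 0 := R.zero_of (by
        rw [polar_add_left, polar_smul_left', polar_smul_left', haa, hba]; ring)
      have ht : (0 + σ (-f ((r' • a + s' • b : R.V₀) : ι → F) ((r' • a + s' • b : R.V₀) : ι → F) / 2) -
          f (-((r' • a + s' • b : R.V₀) : ι → F)) (((r' • a + s' • b : R.V₀) : ι → F) +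
            θ • ((r • a + (0 : F₀) • b : R.V₀) : ι → F))) = 0 := by
        rw [ee, u_neg_left hf, u_add_right hf, ee, zero_smul, add_zero, R.coe_smul, u_smul_right hf,
          u_smul_right hf, ea]
        simp
      have h' := h.congr (d' := c • (a : ι → F)) rfl (by
        rw [zero_smul, add_zero, R.coe_smul, smul_smul, hc]) ht
      have hl : (2 : F) * c ≠ 0 := mul_ne_zero R.two (mul_ne_zero hθ0 fun e => hr (Subtype.ext e))
      refine ⟨a, ha0, hqa, 2 * c, by rw [map_mul, map_ofNat, hcs]; ring, hl, ?_⟩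
      have he : ue hf (a : ι → F) (c • (a : ι → F)) 0 = ut hf (a : ι → F) (2 * c) := by
        refine gl_ext fun q => ?_
        rw [ue_mulVec hf h'.1, ut_mulVec hf (R.iso_of hqa), u_smul_right hf, hcs]
        module
      exact he ▸ h'.2
    · have hbU : polar R.Q₀ a (r • a + s • b) = 0 := by
        rw [polar_add_right, polar_smul_right', polar_smul_right', haa, hab0]; ring
      obtain ⟨z, hqz, haz, hbz⟩ : ∃ z : R.V₀, R.Q₀ z = 0 ∧ polar R.Q₀ a z = 1 ∧
          polar R.Q₀ (r • a + s • b) z = 0 := by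
        have hind : ∀ k : F₀, a ≠ k • (r • a + s • b) := by
          intro k e
          rcases eq_or_ne k 0 with rfl | hk
          · exact ha0 (by rw [e, zero_smul])
          have hc : (1 - k * r) • a = (k * s) • b := by linear_combination (norm := module) e
          set m := (k * s)⁻¹ * (1 - k * r) with hm
          have hbm : b = m • a := by
            rw [hm, mul_smul, hc, inv_smul_smul₀ (mul_ne_zero hk hs)]
          have h1 : (1 : F) + θ * (m : F) ≠ 0 := by
            intro e1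
            have := congrArg σ e1
            rw [map_add, map_one, map_mul, hθ, (R.fixed _).2 m.2, map_zero] at this
            exact R.two (by linear_combination e1 + this)
          refine hout (1 + θ * (m : F))⁻¹ (inv_ne_zero h1) ?_
          rw [hab, hbm, R.coe_smul, smul_smul, ← one_smul F (a : ι → F), smul_smul, mul_one, ← add_smul,
            inv_smul_smul₀ h1]
          exact a.2
        obtain ⟨z₀, hz1, hz2⟩ : ∃ z₀, polar R.Q₀ a z₀ = 1 ∧ polar R.Q₀ (r • a + s • b) z₀ = 0 := by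
          by_contra hcon
          push Not at hcon
          have hle : perp R.Q₀ (Submodule.span F₀ {r • a + s • b}) ≤ perp R.Q₀ (Submodule.span F₀ {a}) := by
            intro v hv
            rw [mem_perp_span_singleton] at hv ⊢
            by_contra hne
            refine hcon ((polar R.Q₀ a v)⁻¹ • v) (by rw [polar_smul_right', inv_mul_cancel₀ hne]) ?_
            rw [polar_smul_right', hv, mul_zero]
          have hle' := perp_anti (Q := R.Q₀) hle
          rw [R.nondeg.perp_perp, R.nondeg.perp_perp] at hle'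
          obtain ⟨k, hk⟩ := Submodule.mem_span_singleton.1 (hle' (Submodule.mem_span_singleton_self a))
          exact hind k hk.symm
        refine ⟨z₀ - R.Q₀ z₀ • a, ?_, ?_, ?_⟩
        · rw [sub_eq_add_neg, ← neg_smul (R.Q₀ z₀) a, map_add_polar, qmap_smul, hqa, polar_smul_right',
            polar_comm, hz1]; ring
        · rw [polar_sub_right, polar_smul_right', haa, hz1]; ring
        · rw [polar_sub_right, polar_smul_right', hz2, polar_comm, hbU]; ring
      exact exists_ut hM (by omega) hθ hθ0 hqa ha0 hqz haz hbU (by rw [polar_comm]; exact hbz) hb'0 h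
  · set W := perp R.Q₀ (Submodule.span F₀ ({a, b} : Set R.V₀)) with hW
    have hdet : ∀ r s : F₀, 2 * (w * R.Q₀ b) * r + polar R.Q₀ a b * s = 0 →
        polar R.Q₀ a b * r + 2 * R.Q₀ b * s = 0 → r = 0 ∧ s = 0 := by
      intro r s e1 e2
      set d := polar R.Q₀ a b
      set c := R.Q₀ b
      have hne : d * d - 4 * w * (c * c) ≠ 0 := by
        intro e
        rcases eq_or_ne c 0 with hc | hc
        · exact hts ⟨hc, mul_self_eq_zero.1 (by rw [hc] at e; linear_combination e)⟩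
        · have h2 := R.two₀
          have hsq : ((d / (2 * c) : F₀) : F) * ((d / (2 * c) : F₀) : F) = θ * θ := by
            have : d / (2 * c) * (d / (2 * c)) = w := by field_simp; linear_combination e
            exact congrArg Subtype.val this
          have hσv := (R.fixed _).2 (d / (2 * c) : F₀).2
          rcases mul_self_eq_mul_self_iff.1 hsq with h | h
          · rw [h, hθ] at hσv; exact mul_ne_zero R.two hθ0 (by linear_combination -hσv)
          · rw [h, map_neg, hθ] at hσv; exact mul_ne_zero R.two hθ0 (by linear_combination hσv)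
      exact ⟨(mul_eq_zero.1 (show (d * d - 4 * w * (c * c)) * r = 0 by
          linear_combination d * e2 - 2 * c * e1)).resolve_left hne,
        (mul_eq_zero.1 (show (d * d - 4 * w * (c * c)) * s = 0 by
          linear_combination d * e1 - 2 * (w * c) * e2)).resolve_left hne⟩
    have hdisj : Submodule.span F₀ ({a, b} : Set R.V₀) ⊓ W = ⊥ := by
      refine eq_bot_iff.2 fun v hv => ?_
      obtain ⟨r, s, rfl⟩ := Submodule.mem_span_pair.1 hv.1
      obtain ⟨e1, e2⟩ := (mem_perp_span_pair R.Q₀).1 hv.2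
      simp only [polar_add_right, polar_smul_right', polar_self', hiso, polar_comm (⇑R.Q₀) b a] at e1 e2
      obtain ⟨rfl, rfl⟩ := hdet r s (by linear_combination e1) (by linear_combination e2)
      simp
    have hC₀ : Nondeg (F := F₀) (V := W) (restr R.Q₀ W) := by
      rw [nondeg_restr_iff, hW, R.nondeg.perp_perp, inf_comm]; exact hdisj
    have hdim : finrank F₀ R.V₀ ≤ finrank F₀ W + 2 := by
      have h1 := R.nondeg.finrank_add_perp (Submodule.span F₀ ({a, b} : Set R.V₀))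
      have h2 : finrank F₀ (Submodule.span F₀ ({a, b} : Set R.V₀)) ≤ 2 := by
        classical
        refine (finrank_span_le_card ({a, b} : Set R.V₀)).trans ?_
        rw [Set.toFinset_insert, Set.toFinset_singleton]
        exact Finset.card_le_two
      rw [← hW] at h1
      omega
    obtain ⟨x, hx, z, hz, hqx, hqz, hxz, hx0, C₁, hC₁0, hC₁, hdC₁, hC₁x⟩ := exists_hyp R.nondeg hC₀ (by omega)
    obtain ⟨x', hx', z', hz', hqx', hqz', hx'z', -⟩ := exists_hyp R.nondeg hC₁ (by omega)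
    have hp := fun c (hc : c ∈ W) => (mem_perp_span_pair R.Q₀).1 hc
    obtain ⟨b', hb', hb'0, a', ha', h⟩ := exists_ue_imag hM hθ hθ0 hg hu hu0 hout hab hqx hx0 hqx' hqz' hx'z'
      (hC₁x x' hx').1 (hC₁x z' hz').1 (hp x hx).1 (hp x hx).2 (hp x' (hC₁0 hx')).1 (hp x' (hC₁0 hx')).2
      (hp z' (hC₁0 hz')).1 (hp z' (hC₁0 hz')).2
    obtain ⟨r, s, rfl⟩ := Submodule.mem_span_pair.1 hb'
    refine exists_ut hM (by omega) hθ hθ0 hqx hx0 hqz hxz ?_ ?_ hb'0 h
    · simp only [polar_add_right, polar_smul_right', polar_comm (⇑R.Q₀) x a, polar_comm (⇑R.Q₀) x b, (hp x hx).1,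
        (hp x hx).2]
      ring
    · simp only [polar_add_right, polar_smul_right', polar_comm (⇑R.Q₀) z a, polar_comm (⇑R.Q₀) z b, (hp z hz).1,
        (hp z hz).2]
      ring

/-- Maximality of the rational subgroup among the subgroups of the special isometry group. -/
theorem isMaximalIn_rational_eight (P : GL ι F) (R : ORat σ f F₀) (hR : R.V₀ = ratPts F₀ P) (hn : 8 ≤ Fintype.card ι)
    (G : Subgroup (GL ι F)) (hG : G = isoGrp f ⊓ Geo.specialLinear ι F)
    (hgen : ∀ M : Subgroup (GL ι F), (∀ v, f v v = 0 → UtIn R.herm M v) → G ≤ M) :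
    Geo.IsMaximalIn G (Geo.subfieldSubgroup F₀ P ⊓ G) := by
  have := R.finiteDimensional
  have hd0 : finrank F₀ R.V₀ = Fintype.card ι := R.finrank_eq
  have hf := R.herm
  obtain ⟨θ, hθ0, hθ⟩ := exists_skew_ne_zero hf
  refine ⟨lt_of_le_not_ge inf_le_right fun h => ?_, fun M hM hMG => ?_⟩
  · obtain ⟨x, -, z, -, hx, hz, hxz, -⟩ :=
      exists_hyp R.nondeg (nondeg_restr_top R.nondeg) (by rw [finrank_top]; omega)
    have fxx : f (x : ι → F) (x : ι → F) = 0 := R.iso_of hx
    have fzx : f (z : ι → F) (x : ι → F) = 1 := R.one_of (by rw [polar_comm]; exact hxz)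
    obtain ⟨c, hc, hcv⟩ := (mem_subfieldSubgroup_iff F₀ P _).1
      (h (hG ▸ ⟨ut_mem_iso hf fxx hθ, ut_mem_sl hf (x : ι → F) θ⟩ : ut hf (x : ι → F) θ ∈ G)).1
    rw [← hR] at hcv
    have h1 := R.f_mem ⟨_, hcv x x.2⟩ z
    simp only [ut_mulVec hf fxx, fxx, mul_zero, zero_smul, add_zero, u_smul_left hf, R.one_of hxz, mul_one] at h1
    have h2 := R.f_mem ⟨_, hcv z z.2⟩ z
    simp only [ut_mulVec hf fxx, fzx, mul_one, u_smul_left hf, u_add_left hf, R.iso_of hz, R.one_of hxz,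
      zero_add] at h2
    have h3 := F₀.div_mem h2 h1
    rw [mul_div_cancel_left₀ _ (inv_ne_zero hc), ← R.fixed, hθ] at h3
    exact mul_ne_zero R.two hθ0 (by linear_combination -h3)
  by_cases hMS : M ≤ Geo.subfieldSubgroup F₀ P
  · exact Or.inl (le_antisymm (le_inf hMS hMG) hM)
  refine Or.inr (le_antisymm hMG (hgen M ?_))
  have hMi : M ≤ isoGrp f := fun m hm => (hG ▸ hMG hm).1
  have hOver : R.Over M := by
    refine ⟨hMi, fun e d he hed => ?_⟩
    have hok : EichOK hf (e : ι → F) (d : ι → F) (-f (d : ι → F) (d : ι → F) / 2) := by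
      refine ⟨R.iso_of he, R.zero_of (by rw [polar_comm]; exact hed), ?_⟩
      rw [map_div₀, map_neg, map_ofNat, R.sigma_f d d]
      have := R.two
      field_simp
      ring
    refine ⟨hok, hM ⟨(mem_subfieldSubgroup_iff F₀ P _).2 ⟨1, one_ne_zero, ?_⟩,
      hG ▸ ⟨ue_mem_iso hf hok, ue_mem_sl hf _ _ _⟩⟩⟩
    intro v hv
    rw [← hR] at hv ⊢
    rw [inv_one, one_smul, ue_mulVec hf hok]
    have h2 : (2 : F) ∈ F₀ := ofNat_mem F₀ 2
    refine R.V₀.add_mem (R.V₀.add_mem hv (R.V₀.smul_mem (⟨_, R.f_mem ⟨v, hv⟩ e⟩ : F₀) d.2)) ?_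
    exact R.V₀.smul_mem (⟨_, F₀.sub_mem (F₀.mul_mem (F₀.div_mem (F₀.neg_mem (R.f_mem d d)) h2)
      (R.f_mem ⟨v, hv⟩ e)) (R.f_mem ⟨v, hv⟩ d)⟩ : F₀) e.2
  obtain ⟨g, hgM, hgS⟩ := SetLike.not_le_iff_exists.1 hMS
  obtain ⟨u, hu, hout⟩ : ∃ u : R.V₀, R.Q₀ u = 0 ∧
      ∀ c : F, c ≠ 0 → c • ((g : Matrix ι ι F) *ᵥ (u : ι → F)) ∉ R.V₀ := by
    by_contra hc
    push Not at hc
    obtain ⟨c, hc0, hcv⟩ := R.stab_of_points (by omega) (hMi hgM) hc
    refine hgS ((mem_subfieldSubgroup_iff F₀ P _).2 ⟨c⁻¹, inv_ne_zero hc0, fun v hv => ?_⟩)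
    rw [inv_inv, ← hR]
    exact hcv v (hR ▸ hv)
  have hu0 : u ≠ 0 := fun e => hout 1 one_ne_zero (by
    rw [e, ZeroMemClass.coe_zero, mulVec_zero, smul_zero]; exact R.V₀.zero_mem)
  obtain ⟨x₁, hx₁0, hx₁, l, hl, hl0, hmem⟩ := exists_ut_of_move_eight hOver hn hθ hθ0 hgM hu hu0 hout
  exact R.utIn_all hOver (by omega) hθ hθ0 hx₁0 hx₁ hl hl0 hmem

end Cfsg.Agent.H12.UnitarySmall.UnitaryOrthEight

namespace Cfsg.Agent.H12.UnitarySmall

open Cfsg
open scoped MatrixGroups Matrix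

/-- Orthogonal subfield groups. -/
theorem isMaximalIn_orth_subfield {F : Type*} [Field F] [Fintype F] (n q : ℕ) (hF : Fintype.card F = q ^ 2) (hn : 8 ≤ n) (hodd : Odd q) (F₀ : Subfield F) (hcard : Fintype.card F = Nat.card F₀ ^ 2) (P : Matrix.GeneralLinearGroup (Fin n) F) (hP : Cfsg.Geo.IsFormRationalStructure (Cfsg.hermForm n F q) F₀ 1 P) : Cfsg.Geo.IsMaximalIn (Cfsg.GU n F q ⊓ Cfsg.Geo.specialLinear (Fin n) F) (Cfsg.Geo.subfieldSubgroup F₀ P ⊓ (Cfsg.GU n F q ⊓ Cfsg.Geo.specialLinear (Fin n) F)) := by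
  obtain ⟨σ, hσ, hf⟩ := Cfsg.Agent.Symplectic.isUnitaryForm_hermForm (n := n) hF
  have hq : Nat.card F₀ = q := Nat.pow_left_injective two_ne_zero (hcard.symm.trans hF)
  have hfix : F₀ = Unitary.fixK hF := by
    refine SetLike.coe_injective (Set.eq_of_subset_of_ncard_le (fun x hx => ?_) ?_ (Set.toFinite _))
    · rw [SetLike.mem_coe, Unitary.mem_fixK]
      letI := Fintype.ofFinite F₀
      have := FiniteField.pow_card (⟨x, hx⟩ : F₀)
      rw [← Nat.card_eq_fintype_card, hq] at this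
      exact congrArg Subtype.val this
    · rw [← Nat.card_coe_set_eq, ← Nat.card_coe_set_eq]
      exact ((Unitary.card_fixK hF).le.trans hq.ge)
  have h2 : (2 : F) ≠ 0 := Ring.two_ne_zero fun h => by
    have h1 := FiniteField.even_card_iff_char_two.1 h
    have h3 : Odd (Fintype.card F) := hF ▸ hodd.pow
    rw [Nat.odd_iff] at h3
    omega
  obtain ⟨R, hR⟩ := Cfsg.Agent.H98.UnitaryOrth.exists_oRat (F₀ := F₀) hf h2
    (fun x => by rw [hσ, hfix, Unitary.mem_fixK]) P fun u hu v hv => by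
      have := hP _ _ hu hv
      rwa [Cfsg.Agent.H98.SubfieldOrth.mul_inv_vec, Cfsg.Agent.H98.SubfieldOrth.mul_inv_vec, one_mul] at this
  exact UnitaryOrthEight.isMaximalIn_rational_eight P R hR (by simp; omega) _ rfl fun M h =>
    Cfsg.Agent.Symplectic.su_le_of_ut hF (by omega) hσ hf h

end Cfsg.Agent.H12.UnitarySmall
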